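import Mathlib

open CategoryTheory Category Limits ZeroObject

universe v v' u u'

namespace Helper5.LocAb

variable {C : Type u} [Category.{v} C] [Abelian C]
  {D : Type u'} [Category.{v'} D]
  (L : C ⥤ D) (W : MorphismProperty C)

section left

variable [W.HasLeftCalculusOfFractions] [L.IsLocalization W] [Preadditive D] [L.Additive]

include W in
lemma map_eq_zero_iff_postcomp {X Y : C} (f : X ⟶ Y) :
    L.map f = 0 ↔ ∃ (Z : C) (s : Y ⟶ Z) (_ : W s), f ≫ s = 0 := by
  rw [← L.map_zero, MorphismProperty.map_eq_iff_postcomp L W]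
  simp

include W in
lemma epi_map_of_cancel {X Y : C} (f : X ⟶ Y)
    (hf : ∀ ⦃Z : C⦄ (z : Y ⟶ Z), L.map f ≫ L.map z = 0 → L.map z = 0) : Epi (L.map f) := by
  have := Localization.essSurj L W
  rw [Preadditive.epi_iff_cancel_zero]
  intro T z hz
  obtain ⟨φ, hφ⟩ := Localization.exists_leftFraction L W
    (z ≫ (L.objObjPreimageIso T).inv)
  rw [← cancel_mono (L.objObjPreimageIso T).inv, zero_comp, hφ,
    ← cancel_mono (L.map φ.s), zero_comp,
    MorphismProperty.LeftFraction.map_comp_map_s]
  apply hf φ.f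
  have : L.map φ.f = z ≫ (L.objObjPreimageIso T).inv ≫ L.map φ.s := by
    simp [reassoc_of% hφ]
  rw [this, reassoc_of% hz, zero_comp]

include W in
lemma epi_map {X Y : C} (f : X ⟶ Y) [Epi f] : Epi (L.map f) := by
  apply epi_map_of_cancel L W
  intro Z z hz
  rw [← L.map_comp, map_eq_zero_iff_postcomp L W] at hz
  obtain ⟨T, s, hs, eq⟩ := hz
  have eq' : z ≫ s = 0 := by rw [← cancel_epi f, ← assoc, eq, comp_zero]
  have := Localization.inverts L W s hs
  rw [← cancel_mono (L.map s), zero_comp, ← L.map_comp, eq', L.map_zero]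

include W in
lemma exists_desc_cokernel {X Y : C} (f : X ⟶ Y) (T : D) (w : L.obj Y ⟶ T)
    (hw : L.map f ≫ w = 0) :
    ∃ (l : L.obj (cokernel f) ⟶ T), L.map (cokernel.π f) ≫ l = w := by
  have := Localization.essSurj L W
  wlog hw' : ∃ (Z : C) (hZ : L.obj Z = T) (z : Y ⟶ Z), w = L.map z ≫ eqToHom hZ
      generalizing T
  · obtain ⟨φ, hφ⟩ := Localization.exists_leftFraction L W
      (w ≫ (L.objObjPreimageIso T).inv)
    rw [← cancel_mono (L.map φ.s), Category.assoc,
      MorphismProperty.LeftFraction.map_comp_map_s] at hφ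
    obtain ⟨l, hl⟩ := this _ (L.map φ.f) (by rw [← hφ, reassoc_of% hw, zero_comp]) ⟨_, rfl, by simp⟩
    exact ⟨l ≫ inv (L.map φ.s) ≫ (L.objObjPreimageIso T).hom, by simp [reassoc_of% hl, ← hφ]⟩
  obtain ⟨Z, rfl, z, rfl⟩ := hw'
  simp only [eqToHom_refl, Category.comp_id, ← L.map_comp,
    map_eq_zero_iff_postcomp L W] at hw
  obtain ⟨Z', t, ht, fac⟩ := hw
  rw [Category.assoc] at fac
  have := Localization.inverts L W t ht
  exact ⟨L.map (cokernel.desc _ _ fac) ≫ inv (L.map t), by simp [← L.map_comp_assoc]⟩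

include W in
lemma preservesCokernel {X Y : C} (f : X ⟶ Y) :
    PreservesColimit (parallelPair f 0) L := by
  have : Epi (L.map (cokernel.π f)) := epi_map L W _
  exact preservesColimit_of_preserves_colimit_cocone (cokernelIsCokernel f)
      ((CokernelCofork.isColimitMapCoconeEquiv _ L).2
        (Cofork.IsColimit.ofExistsUnique
          (fun s ↦ existsUnique_of_exists_of_unique
            (exists_desc_cokernel L W f _ _ (CokernelCofork.condition s))
            (fun _ _ h₁ h₂ ↦ (cancel_epi (L.map (cokernel.π f))).1 (h₁.trans h₂.symm)))))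

end left

section right

variable [W.HasRightCalculusOfFractions] [L.IsLocalization W] [Preadditive D] [L.Additive]

include W in
lemma map_eq_zero_iff_precomp {X Y : C} (f : X ⟶ Y) :
    L.map f = 0 ↔ ∃ (Z : C) (s : Z ⟶ X) (_ : W s), s ≫ f = 0 := by
  rw [← L.map_zero, MorphismProperty.map_eq_iff_precomp L W]
  simp

include W in
lemma mono_map_of_cancel {X Y : C} (f : X ⟶ Y)
    (hf : ∀ ⦃Z : C⦄ (z : Z ⟶ X), L.map z ≫ L.map f = 0 → L.map z = 0) : Mono (L.map f) := by
  have := Localization.essSurj L W
  rw [Preadditive.mono_iff_cancel_zero]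
  intro T z hz
  obtain ⟨φ, hφ⟩ := Localization.exists_rightFraction L W
    ((L.objObjPreimageIso T).hom ≫ z)
  rw [← cancel_epi (L.objObjPreimageIso T).hom, comp_zero, hφ,
    ← cancel_epi (L.map φ.s), comp_zero,
    MorphismProperty.RightFraction.map_s_comp_map]
  apply hf φ.f
  have : L.map φ.s ≫ (L.objObjPreimageIso T).hom ≫ z = L.map φ.f := by cat_disch
  rw [← this, Category.assoc, Category.assoc, hz, comp_zero, comp_zero]

include W in
lemma mono_map {X Y : C} (f : X ⟶ Y) [Mono f] : Mono (L.map f) := by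
  apply mono_map_of_cancel L W
  intro Z z hz
  rw [← L.map_comp, map_eq_zero_iff_precomp L W] at hz
  obtain ⟨T, s, hs, eq⟩ := hz
  have eq' : s ≫ z = 0 := by rw [← cancel_mono f, assoc, eq, zero_comp]
  have := Localization.inverts L W s hs
  rw [← cancel_epi (L.map s), comp_zero, ← L.map_comp, eq', L.map_zero]

include W in
lemma exists_lift_kernel {X Y : C} (f : X ⟶ Y) (T : D) (w : T ⟶ L.obj X)
    (hw : w ≫ L.map f = 0) :
    ∃ (l : T ⟶ L.obj (kernel f)), l ≫ L.map (kernel.ι f) = w := by
  have := Localization.essSurj L W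
  wlog hw' : ∃ (Z : C) (hZ : T = L.obj Z) (z : Z ⟶ X), w = eqToHom hZ ≫ L.map z
      generalizing T
  · obtain ⟨φ, hφ⟩ := Localization.exists_rightFraction L W
      ((L.objObjPreimageIso T).hom ≫ w)
    rw [← cancel_epi (L.map φ.s),
      MorphismProperty.RightFraction.map_s_comp_map] at hφ
    obtain ⟨l, hl⟩ := this _ (L.map φ.f) (by
      rw [← hφ, Category.assoc, Category.assoc, hw, comp_zero, comp_zero]) ⟨_, rfl, by simp⟩
    exact ⟨(L.objObjPreimageIso T).inv ≫ inv (L.map φ.s) ≫ l, by simp [hl, ← hφ]⟩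
  obtain ⟨Z, rfl, z, rfl⟩ := hw'
  simp only [eqToHom_refl, Category.id_comp, ← L.map_comp, map_eq_zero_iff_precomp L W] at hw
  obtain ⟨Z', t, ht, fac⟩ := hw
  have := Localization.inverts L W t ht
  rw [← Category.assoc] at fac
  exact ⟨inv (L.map t) ≫ L.map (kernel.lift _ _ fac), by simp [← Functor.map_comp]⟩

include W in
lemma preservesKernel {X Y : C} (f : X ⟶ Y) :
    PreservesLimit (parallelPair f 0) L := by
  have : Mono (L.map (kernel.ι f)) := mono_map L W _
  exact preservesLimit_of_preserves_limit_cone (kernelIsKernel f)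
      ((KernelFork.isLimitMapConeEquiv _ L).2
        (Fork.IsLimit.ofExistsUnique
          (fun s ↦ existsUnique_of_exists_of_unique
            (exists_lift_kernel L W f _ _ (KernelFork.condition s))
            (fun _ _ h₁ h₂ ↦ (cancel_mono (L.map (kernel.ι f))).1 (h₁.trans h₂.symm)))))

end right

section both

variable [W.HasLeftCalculusOfFractions] [W.HasRightCalculusOfFractions] [L.IsLocalization W]
  [Preadditive D] [L.Additive]

/-- The objects killed by `L`. -/
def ker : ObjectProperty C := fun X => IsZero (L.obj X)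

lemma ker_iff (X : C) : ker L X ↔ IsZero (L.obj X) := Iff.rfl

include W in
lemma isSerreClass : (ker L).IsSerreClass := by
  have h1 : (ker L).ContainsZero := ⟨⟨0, isZero_zero C, L.map_isZero (isZero_zero C)⟩⟩
  have h2 : (ker L).IsClosedUnderSubobjects := ⟨fun {X Y} f _ hY => by
    have : Mono (L.map f) := mono_map L W f
    rw [ker_iff, IsZero.iff_id_eq_zero]
    exact (cancel_mono (L.map f)).1 (hY.eq_of_tgt _ _)⟩
  have h3 : (ker L).IsClosedUnderQuotients := ⟨fun {X Y} f _ hX => by
    have : Epi (L.map f) := epi_map L W f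
    rw [ker_iff, IsZero.iff_id_eq_zero]
    exact (cancel_epi (L.map f)).1 (hX.eq_of_src _ _)⟩
  have h4 : (ker L).IsClosedUnderExtensions := ⟨fun {S} hS h₁ h₃ => by
    rw [ker_iff, IsZero.iff_id_eq_zero]
    have hg : 𝟙 (L.obj S.X₂) ≫ L.map S.g = 0 := h₃.eq_of_tgt _ _
    obtain ⟨l, hl⟩ := exists_lift_kernel L W S.g _ (𝟙 _) hg
    have := hS.mono_f
    have hm : Mono (hS.exact.lift (kernel.ι S.g) (kernel.condition _)) :=
      mono_of_mono_fac (hS.exact.lift_f (kernel.ι S.g) (kernel.condition _))
    have hk : IsZero (L.obj (kernel S.g)) :=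
      h2.prop_of_mono (hS.exact.lift (kernel.ι S.g) (kernel.condition _)) h₁
    rw [← hl, hk.eq_of_tgt l 0, zero_comp]⟩
  exact { }

include W in
lemma le_isoModSerre :
    letI := isSerreClass L W
    W ≤ (ker L).isoModSerre := by
  let _ := isSerreClass L W
  intro X Y f hf
  have := Localization.inverts L W f hf
  constructor
  · change IsZero (L.obj (kernel f))
    have : Mono (L.map (kernel.ι f)) := mono_map L W _
    rw [IsZero.iff_id_eq_zero, ← cancel_mono (L.map (kernel.ι f)), ← cancel_mono (L.map f),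
      assoc, assoc, ← L.map_comp, kernel.condition, L.map_zero, comp_zero, zero_comp]
  · change IsZero (L.obj (cokernel f))
    have : Epi (L.map (cokernel.π f)) := epi_map L W _
    rw [IsZero.iff_id_eq_zero, ← cancel_epi (L.map (cokernel.π f)), ← cancel_epi (L.map f),
      ← L.map_comp_assoc, cokernel.condition, L.map_zero, zero_comp, comp_zero, comp_zero]

include W in
lemma isoModSerre_isInvertedBy :
    letI := isSerreClass L W
    (ker L).isoModSerre.IsInvertedBy L := by
  let _ := isSerreClass L W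
  intro X Y f hf
  have hk : IsZero (L.obj (kernel f)) := hf.1
  have hc : IsZero (L.obj (cokernel f)) := hf.2
  -- the image inclusion
  have i1 : IsIso (L.map (Abelian.image.ι f)) := by
    have : Mono (L.map (Abelian.image.ι f)) := mono_map L W _
    obtain ⟨l, hl⟩ := exists_lift_kernel L W (cokernel.π f) _ (𝟙 _) (hc.eq_of_tgt _ _)
    refine ⟨l, ?_, hl⟩
    rw [← cancel_mono (L.map (Abelian.image.ι f)), assoc]
    erw [hl]
    rw [comp_id, id_comp]
  have i2 : IsIso (L.map (Abelian.coimage.π f)) := by
    have : Epi (L.map (Abelian.coimage.π f)) := epi_map L W _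
    obtain ⟨l, hl⟩ := exists_desc_cokernel L W (kernel.ι f) _ (𝟙 _) (hk.eq_of_src _ _)
    refine ⟨l, hl, ?_⟩
    rw [← cancel_epi (L.map (Abelian.coimage.π f)), ← assoc]
    erw [hl]
    rw [comp_id, id_comp]
  have i3 : IsIso (L.map (Abelian.coimageImageComparison f)) := inferInstance
  rw [← Abelian.coimage_image_factorisation f, L.map_comp, L.map_comp]
  infer_instance

include W in
lemma isLocalization_isoModSerre :
    letI := isSerreClass L W
    L.IsLocalization (ker L).isoModSerre := by
  let _ := isSerreClass L W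
  refine Functor.IsLocalization.of_equivalence_source L W L (ker L).isoModSerre
    (CategoryTheory.Equivalence.refl) ?_ (isoModSerre_isInvertedBy L W) (Functor.leftUnitor L)
  intro X Y f hf
  exact MorphismProperty.le_isoClosure _ _ (le_isoModSerre L W f hf)

include W in
theorem main : Nonempty (Abelian D) ∧ PreservesFiniteLimits L ∧ PreservesFiniteColimits L := by
  let _ := isSerreClass L W
  have := isLocalization_isoModSerre L W
  exact ⟨⟨ObjectProperty.SerreClassLocalization.abelian L (ker L)⟩,
    ObjectProperty.SerreClassLocalization.preservesFiniteLimits L (ker L),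
    ObjectProperty.SerreClassLocalization.preservesFiniteColimits L (ker L)⟩

end both

end Helper5.LocAb
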